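import Groth.Agent.H29RR.SubBundle
import Groth.Agent.H29RR.Invert

/-!
# Bundles with twisted endomorphisms: kernels, images and untwisting
-/

set_option autoImplicit false
set_option linter.style.haveILetI false
set_option linter.unusedSectionVars false
universe u

open CategoryTheory CategoryTheory.Limits AlgebraicGeometry

namespace Groth.Agent.H29Pairs

open Groth.Agent.H29RR

attribute [local instance 10000] H10Coh.hasSheafifyAb H10Coh.hasWeakSheafifyAb H10Coh.hasExtAb H10Coh.enoughInjAb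

variable {X : Scheme.{u}}

theorem sheafify_whisker_eq (L : X.Modules) {G E : X.Modules} (j : G ⟶ E) :
    (CohB1.sheafifyMod X).map (MonoidalCategoryStruct.whiskerRight (C := CohB1.PMod X) j.val (CohB1.toPMod L)) =
      (twist L).map j := by
  rfl

theorem isEquivalence_twist {L : X.Modules} (hL : PicF.IsInvertible L) : (twist L).IsEquivalence := by
  obtain ⟨N, -, ⟨e⟩⟩ := exists_inverse_comm hL
  exact (CategoryTheory.Equivalence.mk (twist L) (twist N) (twistInv e).symm
    (twistInv (H10Coh.Tw.commIso N L ≪≫ e))).isEquivalence_functor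

/-- The kernel of a compatible map is invariant. -/
theorem exists_kernel_lift {T : X.Modules ⥤ X.Modules} [T.Additive] [T.IsEquivalence] {E F : X.Modules}
    {φ : E ⟶ T.obj E} {ψ : F ⟶ T.obj F} (f : E ⟶ F) (hf : f ≫ ψ = φ ≫ T.map f) :
    ∃ χ : kernel f ⟶ T.obj (kernel f), χ ≫ T.map (kernel.ι f) = kernel.ι f ≫ φ := by
  refine ⟨kernel.lift (T.map f) (kernel.ι f ≫ φ) ?_ ≫ (PreservesKernel.iso T f).inv, ?_⟩
  · rw [Category.assoc, ← hf, kernel.condition_assoc, zero_comp]
  · rw [Category.assoc, PreservesKernel.iso_inv_ι, kernel.lift_ι]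

/-- The image of a compatible map is invariant. -/
theorem exists_image_lift {T : X.Modules ⥤ X.Modules} [T.Additive] [T.IsEquivalence] {E F : X.Modules}
    {φ : E ⟶ T.obj E} {ψ : F ⟶ T.obj F} (f : E ⟶ F) (hf : f ≫ ψ = φ ≫ T.map f) :
    ∃ χ : Abelian.image f ⟶ T.obj (Abelian.image f),
      χ ≫ T.map (Abelian.image.ι f) = Abelian.image.ι f ≫ ψ := by
  obtain ⟨κ, hκ⟩ := exists_kernel_lift f hf
  let π := Abelian.factorThruImage f
  have h0 : kernel.ι f ≫ π = 0 := by
    rw [← cancel_mono (Abelian.image.ι f), Category.assoc, Abelian.image.fac, kernel.condition, zero_comp]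
  have hz : kernel.ι f ≫ φ ≫ T.map π = 0 := by
    rw [← Category.assoc, ← hκ, Category.assoc, ← T.map_comp, h0, T.map_zero, comp_zero]
  haveI := hz
  obtain ⟨χ, hχ⟩ : ∃ χ : Abelian.image f ⟶ T.obj (Abelian.image f), π ≫ χ = φ ≫ T.map π := by
    have hS : (ShortComplex.mk (kernel.ι f) π h0).Exact :=
      ShortComplex.exact_of_f_is_kernel _ (KernelFork.IsLimit.ofι' _ _ fun {A} x hx =>
        ⟨kernel.lift f x (by
          rw [← Abelian.image.fac f, ← Category.assoc]
          show (x ≫ π) ≫ _ = 0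
          rw [show x ≫ π = 0 from hx, zero_comp]), kernel.lift_ι _ _ _⟩)
    haveI : Epi (ShortComplex.mk (kernel.ι f) π h0).g := inferInstanceAs (Epi π)
    exact ⟨hS.desc _ hz, hS.g_desc _ hz⟩
  refine ⟨χ, ?_⟩
  rw [← cancel_epi π, ← Category.assoc, hχ, Category.assoc, ← T.map_comp, Abelian.image.fac, ← hf,
    ← Category.assoc, Abelian.image.fac]

/-- Untwisting an invariant subobject of a twisted pair. -/
theorem exists_untwist_lift {T : X.Modules ⥤ X.Modules} [T.IsEquivalence] {E I I' : X.Modules}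
    {φ : E ⟶ T.obj E} (e : T.obj I' ≅ I) {ι : I ⟶ T.obj E} {χ : I ⟶ T.obj I}
    (h : χ ≫ T.map ι = ι ≫ T.map φ) {j : I' ⟶ E} (hj : T.map j = e.hom ≫ ι) :
    ∃ χ' : I' ⟶ T.obj I', χ' ≫ T.map j = j ≫ φ := by
  refine ⟨T.preimage (e.hom ≫ χ ≫ T.map e.inv), T.map_injective ?_⟩
  rw [T.map_comp, T.map_preimage, T.map_comp, hj, Category.assoc, Category.assoc, ← T.map_comp,
    e.inv_hom_id_assoc, h, Category.assoc]

end Groth.Agent.H29Pairs
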