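import Groth.Agent.H29RR.SubBundle

/-!
# Maximal slope among subbundles with a given property
-/

set_option autoImplicit false
set_option linter.style.haveILetI false
set_option linter.unusedSectionVars false
universe u

open CategoryTheory CategoryTheory.Limits AlgebraicGeometry

namespace Groth.Agent.H29Pairs

open Groth.Agent.H29RR

attribute [local instance 10000] H10Coh.hasSheafifyAb H10Coh.hasWeakSheafifyAb H10Coh.hasExtAb H10Coh.enoughInjAb

variable {k : Type u} [Field k] {X : Scheme.{u}} [X.Over (Spec (CommRingCat.of k))]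
  [IsProper (X ↘ Spec (CommRingCat.of k))] [IsIntegral X]

/-- Among the subbundles with a property, one of largest slope and then of largest rank. -/
theorem exists_maxSlope_of (hdim : topologicalKrullDim X ≤ 1) {E : X.Modules} {r : ℕ} (hr : 0 < r)
    (hE : FlatMod.IsFinLocFreeOfRank r E) (inv : ∀ G : X.Modules, (G ⟶ E) → Prop) (hid : inv E (𝟙 E)) :
    ∃ (E₁ : X.Modules) (r₁ : ℕ) (i₁ : E₁ ⟶ E), Mono i₁ ∧ 0 < r₁ ∧ FlatMod.IsFinLocFreeOfRank r₁ E₁ ∧ inv E₁ i₁ ∧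
      (∀ (G : X.Modules) (r' : ℕ) (j : G ⟶ E), Mono j → 0 < r' → FlatMod.IsFinLocFreeOfRank r' G → inv G j →
        Curv2.deg k X G r' * (r₁ : ℤ) ≤ Curv2.deg k X E₁ r₁ * (r' : ℤ) ∧
          (Curv2.deg k X G r' * (r₁ : ℤ) = Curv2.deg k X E₁ r₁ * (r' : ℤ) → r' ≤ r₁)) := by
  classical
  haveI := isNoetherian_of_proper (k := k) (X := X)
  let P : ℕ → ℤ → Prop := fun s d => ∃ (G : X.Modules) (l : G ⟶ E), Mono l ∧
    FlatMod.IsFinLocFreeOfRank s G ∧ inv G l ∧ Curv2.deg k X G s = d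
  let R := (Finset.range (r + 1)).filter fun s => 0 < s ∧ ∃ d, P s d
  have hR : ∀ (G : X.Modules) (s : ℕ) (l : G ⟶ E), Mono l → 0 < s → FlatMod.IsFinLocFreeOfRank s G → inv G l →
      s ∈ R := fun G s l hl hs hG hi => by
    haveI := hl
    have := H25Par.rank_le_of_mono (genericPoint X) hG hE l
    simp only [R, Finset.mem_filter, Finset.mem_range]
    exact ⟨by omega, hs, _, G, l, hl, hG, hi, rfl⟩
  have hbest : ∀ s ∈ R, ∃ d, P s d ∧ ∀ d', P s d' → d' ≤ d := fun s hs => by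
    refine Int.exists_greatest_of_bdd
      ⟨(Module.finrank k (Coh.HH X E 0) : ℤ) - (s : ℤ) * Curv2.euler k X (Coh.structureModule X), fun d hd => ?_⟩
      (Finset.mem_filter.1 hs).2.2
    obtain ⟨G, l, hl, hG, -, rfl⟩ := hd
    haveI := hl
    exact deg_le_h0 (k := k) hdim (isCoh_of_rank hE) l
  choose! best hbest1 hbest2 using hbest
  obtain ⟨r₁, hr₁, hmax⟩ := Finset.exists_max_image R
    (fun s => toLex ((best s : ℚ) / (s : ℚ), s)) ⟨r, hR E r (𝟙 E) inferInstance hr hE hid⟩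
  obtain ⟨E₁, i₁, hi, hE₁, hinv, hd⟩ := hbest1 r₁ hr₁
  have hr₁0 : 0 < r₁ := (Finset.mem_filter.1 hr₁).2.1
  have hr₁q : (0 : ℚ) < r₁ := by exact_mod_cast hr₁0
  refine ⟨E₁, r₁, i₁, hi, hr₁0, hE₁, hinv, fun G s l hl hs hG hGi => ?_⟩
  have hsR := hR G s l hl hs hG hGi
  have hsq : (0 : ℚ) < s := by exact_mod_cast hs
  have hle : (Curv2.deg k X G s : ℚ) ≤ best s := by
    exact_mod_cast hbest2 s hsR _ ⟨G, l, hl, hG, hGi, rfl⟩
  rw [hd]
  rcases Prod.Lex.toLex_le_toLex.1 (hmax s hsR) with h | ⟨h, hs'⟩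
  · rw [div_lt_div_iff₀ hsq hr₁q] at h
    have h' : Curv2.deg k X G s * (r₁ : ℤ) < best r₁ * (s : ℤ) := by
      have : (Curv2.deg k X G s : ℚ) * r₁ < best r₁ * s := lt_of_le_of_lt (by gcongr) h
      exact_mod_cast this
    exact ⟨h'.le, fun h => absurd h h'.ne⟩
  · rw [div_eq_div_iff hsq.ne' hr₁q.ne'] at h
    refine ⟨?_, fun _ => hs'⟩
    have : (Curv2.deg k X G s : ℚ) * r₁ ≤ best r₁ * s := le_trans (by gcongr) h.le
    exact_mod_cast this

end Groth.Agent.H29Pairs
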