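import Groth.Agent.H29RR.SubBundle
import Groth.Agent.H29RR.RankTwo
import Groth.Agent.H22Alg.KExists
import Groth.Agent.H10Coh.ExtPowFree

/-!
# Sections of semistable bundles of degree zero
-/

set_option autoImplicit false
set_option linter.style.haveILetI false
set_option linter.unusedSectionVars false
universe u

open CategoryTheory CategoryTheory.Limits AlgebraicGeometry

namespace Groth.Agent.H29Pairs

open Groth.Agent.H29RR

attribute [local instance 10000] H10Coh.hasSheafifyAb H10Coh.hasWeakSheafifyAb H10Coh.hasExtAb H10Coh.enoughInjAb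

variable (k : Type u) [Field k] {X : Scheme.{u}} [X.Over (Spec (CommRingCat.of k))]
  [IsProper (X ↘ Spec (CommRingCat.of k))] [IsIntegral X] [Smooth (X ↘ Spec (CommRingCat.of k))]

/-- A semistable bundle of degree zero has at most rank many independent sections. -/
theorem h0_le_rank (hdim : topologicalKrullDim X ≤ 1)
    (hO : Module.finrank k (Coh.HH X (Coh.structureModule X) 0) = 1) :
    ∀ (r : ℕ) (G : X.Modules), FlatMod.IsFinLocFreeOfRank r G → Curv2.deg k X G r = 0 →
      SemistableBundle k X G r → Module.finrank k (Coh.HH X G 0) ≤ r := by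
  haveI := isNoetherian_of_proper (k := k) (X := X)
  intro r
  induction r using Nat.strong_induction_on with
  | _ r ih =>
  intro G hG hdeg hss
  rcases Nat.eq_zero_or_pos r with hr | hr
  · subst hr
    haveI : Subsingleton (Coh.HH X G 0) := H10Coh.ExtPowFree.subsingleton_HH_of_isZero (isZero_of_rank_zero hG) 0
    rw [Module.finrank_zero_of_subsingleton]
  rcases subsingleton_or_nontrivial (Coh.HH X G 0) with hh | hh
  · rw [Module.finrank_zero_of_subsingleton]; exact Nat.zero_le _
  obtain ⟨g, hg⟩ := exists_global_ne_zero G hh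
  let s : Coh.structureModule X ⟶ G := H11Tilde.homOfGlobal G g
  have hO1 := H11Ample.isInvertible_structureModule (X := X)
  haveI : Mono s := mono_of_invertible (k := k) hdim hO1 hG (homOfGlobal_ne_zero' hg)
  obtain ⟨G', ι', c, hι', hG', hC, hc, hle, -⟩ :=
    exists_saturated_quotient (k := k) hdim hG (rank_one_of_isInvertible hO1) s
  haveI := hι'
  rw [deg_structureModule] at hle
  have hG'0 : Curv2.deg k X G' 1 = 0 := by
    have h := hss G' 1 ι' inferInstance one_pos hG'
    rw [hdeg, zero_mul] at h
    have hr' : (0 : ℤ) < r := by exact_mod_cast hr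
    nlinarith
  have hS : (ShortComplex.mk ι' (cokernel.π ι') (cokernel.condition ι')).ShortExact :=
    { exact := ShortComplex.exact_cokernel _ }
  have hC0 : Curv2.deg k X (cokernel ι') c = 0 := by
    have h := (deg_add_of_shortExact (k := k) hS hG' hG hC).2
    simp only at h
    rw [hdeg, hG'0] at h
    omega
  have hCss : SemistableBundle k X (cokernel ι') c := by
    intro Q q j hj hq hQ
    rw [hC0, zero_mul]
    haveI : @Mono X.Modules _ Q (ShortComplex.mk ι' (cokernel.π ι') (cokernel.condition ι')).X₃ j := hj
    obtain ⟨P, l, hl, hP, hPd⟩ := exists_preimage (k := k) hdim hS hG' hG hQ j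
    have h := hss P (1 + q) l hl (by omega) hP
    rw [hdeg, zero_mul] at h
    have hPd' : Curv2.deg k X P (1 + q) = Curv2.deg k X G' 1 + Curv2.deg k X Q q := hPd
    rw [hPd', hG'0, zero_add] at h
    have hr' : (0 : ℤ) < r := by exact_mod_cast hr
    have hd : Curv2.deg k X Q q ≤ 0 := nonpos_of_mul_nonpos_left h hr'
    exact mul_nonpos_of_nonpos_of_nonneg hd (Int.natCast_nonneg _)
  have hCh := ih c (by omega) (cokernel ι') hC hC0 hCss
  have hG'h : Module.finrank k (Coh.HH X G' 0) ≤ 1 := by
    rcases subsingleton_or_nontrivial (Coh.HH X G' 0) with h | h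
    · rw [Module.finrank_zero_of_subsingleton]; exact Nat.zero_le _
    · have h' := (bounds_of_section (k := k) hdim (H22Alg.KExists.isInvertible_of_rank_one hG') h).2.1
      rw [hG'0, hO] at h'
      omega
  haveI : Module.Finite k (Coh.HH X G' 0) := H10Coh.finite_HH_proper k X _ (isCoh_of_rank hG') 0
  haveI : Module.Finite k (Coh.HH X G 0) := H10Coh.finite_HH_proper k X _ (isCoh_of_rank hG) 0
  haveI : Module.Finite k (Coh.HH X (cokernel ι') 0) := H10Coh.finite_HH_proper k X _ (isCoh_of_rank hC) 0
  have hex := H25Par.hhlin_exact (k := k) hS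
  have h0 := LinearMap.finrank_range_add_finrank_ker (Canon.HHlin k (cokernel.π ι') 0)
  rw [show LinearMap.ker (Canon.HHlin k (cokernel.π ι') 0) = LinearMap.range (Canon.HHlin k ι' 0) from hex] at h0
  have h1 := Submodule.finrank_le (LinearMap.range (Canon.HHlin k (cokernel.π ι') 0))
  have h2 := LinearMap.finrank_range_le (Canon.HHlin k ι' 0)
  omega

end Groth.Agent.H29Pairs
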